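import Mathlib
import Cfsg.Agent.Helper17.TCUpper
import Cfsg.Agent.Helper17.TCD.L27_Chk
import Cfsg.Agent.Helper17.J1.Grp

/-!
# Groups of order 168 generated by elements satisfying a presentation of `L₂(7)` (helper17)

A certified coset enumeration bounds the order of every group generated by `a`, `b` with
`a² = b³ = (ab)⁷ = [a, b]⁴ = 1` by 168; two groups of order 168 containing such generators,
the first one simple, are isomorphic (through the subgroup of the product generated by the pairs).
-/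

set_option autoImplicit false

namespace Cfsg.Agent.Helper17.L27

open Cfsg.Agent.Helper17.TC Cfsg.Agent.Helper17 Cfsg.Agent.Helper17.J1

section

variable {K : Type*} [Group K]

theorem cols_ginv' (a b : K) : ∀ x < 4, cols a b (getL [1, 0, 3, 2] x) = (cols a b x)⁻¹ := by
  intro x hx
  interval_cases x
  · rfl
  · show a = a⁻¹⁻¹
    rw [inv_inv]
  · rfl
  · show b = b⁻¹⁻¹
    rw [inv_inv]

theorem cols_gen' (a b : K) (hgen : Subgroup.closure ({a, b} : Set K) = ⊤) :
    Subgroup.closure {y | ∃ x < 4, y = cols a b x} = ⊤ := by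
  rw [eq_top_iff, ← hgen]
  apply Subgroup.closure_mono
  rintro z (rfl | rfl)
  · exact ⟨0, by decide, rfl⟩
  · exact ⟨2, by decide, rfl⟩

theorem map_ev {L : Type*} [Group L] (f : K →* L) (x y : K) (w : List ℕ) :
    f (ev x y w) = ev (f x) (f y) w := by
  induction w with
  | nil => simp [ev]
  | cons l w ih =>
    rw [ev_cons, ev_cons, map_mul, ih]
    congr 1
    rcases l with _ | _ | _ | _ | l <;> simp [cols]

/-- a group generated by `a`, `b` with the relations of `L₂(7)` is finite of order at most 168 -/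
theorem card_le (a b : K) (hgen : Subgroup.closure ({a, b} : Set K) = ⊤)
    (hR : ∀ r ∈ TCD.L27.relsL, ev a b r = 1) : Finite K ∧ Nat.card K ≤ 168 := by
  have hsub : ∀ w ∈ TCD.L27.cert.subs, (w.map (cols a b)).prod ∈ Subgroup.zpowers (a * b) := by
    intro w hw
    have hw' : w ∈ [[0, 2]] := hw
    simp only [List.mem_cons, List.not_mem_nil, or_false] at hw'
    subst hw'
    have e : ([0, 2].map (cols a b)).prod = a * b := by simp [cols]
    rw [e]
    exact Subgroup.mem_zpowers _
  obtain ⟨hfin, hle⟩ := index_le (c := TCD.L27.cert) (Subgroup.zpowers (a * b)) (cols a b)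
    TCD.L27.checked (cols_gen' a b hgen) (cols_ginv' a b) hR hsub
  have hle' : (Subgroup.zpowers (a * b)).index ≤ 24 := hle
  have hab7 : (a * b) ^ 7 = 1 := by
    have := hR [0, 2, 0, 2, 0, 2, 0, 2, 0, 2, 0, 2, 0, 2] (by simp [TCD.L27.relsL])
    simpa [ev, cols, pow_succ, mul_assoc] using this
  have h3 : Nat.card (Subgroup.zpowers (a * b)) ≤ 7 := by
    rw [Nat.card_zpowers]
    exact orderOf_le_of_pow_eq_one (by norm_num) hab7
  have h3' : Nat.card (Subgroup.zpowers (a * b)) ≠ 0 := by
    rw [Nat.card_zpowers]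
    exact (orderOf_pos_iff.2 (isOfFinOrder_iff_pow_eq_one.2 ⟨7, by norm_num, hab7⟩)).ne'
  have h4 : (Subgroup.zpowers (a * b)).index ≠ 0 := by
    rw [Subgroup.index]
    exact Nat.card_pos.ne'
  have hc := Subgroup.card_mul_index (Subgroup.zpowers (a * b))
  have hK : Nat.card K ≠ 0 := by rw [← hc]; exact Nat.mul_ne_zero h3' h4
  refine ⟨Nat.finite_of_card_ne_zero hK, ?_⟩
  rw [← hc]
  calc Nat.card (Subgroup.zpowers (a * b)) * (Subgroup.zpowers (a * b)).index ≤ 7 * 24 :=
        Nat.mul_le_mul h3 hle'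
    _ = 168 := by norm_num

end

/-- two groups of order 168, the first one simple, with generators satisfying the relations -/
theorem iso_of_gens {G1 : Type*} {G2 : Type*} [Group G1] [Group G2] [Finite G1] [Finite G2]
    (h1 : Nat.card G1 = 168) (h2 : Nat.card G2 = 168) [IsSimpleGroup G1]
    (a1 b1 : G1) (a2 b2 : G2)
    (hR1 : ∀ r ∈ TCD.L27.relsL, ev a1 b1 r = 1) (hR2 : ∀ r ∈ TCD.L27.relsL, ev a2 b2 r = 1)
    (hc : (a1 * b1 * a1⁻¹ * b1⁻¹) ^ 2 ≠ 1) (hb1 : b1 ≠ 1) (hab1 : a1 * b1 ≠ 1) (hb2 : b2 ≠ 1) :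
    Nonempty (G1 ≃* G2) := by
  let D : Subgroup (G1 × G2) := Subgroup.closure {(a1, a2), (b1, b2)}
  have hAD : (a1, a2) ∈ D := Subgroup.subset_closure (by simp)
  have hBD : (b1, b2) ∈ D := Subgroup.subset_closure (by simp)
  let A : D := ⟨(a1, a2), hAD⟩
  let B : D := ⟨(b1, b2), hBD⟩
  have hgen : Subgroup.closure ({A, B} : Set D) = ⊤ := by
    have := Subgroup.closure_closure_coe_preimage (k := ({(a1, a2), (b1, b2)} : Set (G1 × G2)))
    convert this using 2
    ext z
    simp only [Set.mem_insert_iff, Set.mem_singleton_iff, Set.mem_preimage]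
    constructor
    · rintro (rfl | rfl)
      · left; rfl
      · right; rfl
    · rintro (h | h)
      · left; exact Subtype.ext h
      · right; exact Subtype.ext h
  have hRD : ∀ r ∈ TCD.L27.relsL, ev A B r = 1 := by
    intro r hr
    apply Subtype.ext
    rw [coe_ev]
    apply Prod.ext
    · have := map_ev (MonoidHom.fst G1 G2) (a1, a2) (b1, b2) r
      simp only [MonoidHom.coe_fst] at this
      rw [this]
      exact hR1 r hr
    · have := map_ev (MonoidHom.snd G1 G2) (a1, a2) (b1, b2) r
      simp only [MonoidHom.coe_snd] at this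
      rw [this]
      exact hR2 r hr
  obtain ⟨hfinD, hD⟩ := card_le A B hgen hRD
  let π1 : D →* G1 := (MonoidHom.fst G1 G2).comp D.subtype
  let π2 : D →* G2 := (MonoidHom.snd G1 G2).comp D.subtype
  -- the first projection is onto
  have ha1 : a1 ∈ π1.range := ⟨A, rfl⟩
  have hb1' : b1 ∈ π1.range := ⟨B, rfl⟩
  have hb3 : b1 ^ 3 = 1 := by
    have := hR1 [2, 2, 2] (by simp [TCD.L27.relsL])
    simpa [ev, cols, pow_succ, mul_assoc] using this
  have hab7 : (a1 * b1) ^ 7 = 1 := by
    have := hR1 [0, 2, 0, 2, 0, 2, 0, 2, 0, 2, 0, 2, 0, 2] (by simp [TCD.L27.relsL])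
    simpa [ev, cols, pow_succ, mul_assoc] using this
  have hc4 : (a1 * b1 * a1⁻¹ * b1⁻¹) ^ 4 = 1 := by
    have := hR1 [0, 2, 1, 3, 0, 2, 1, 3, 0, 2, 1, 3, 0, 2, 1, 3] (by simp [TCD.L27.relsL])
    simpa [ev, cols, pow_succ, mul_assoc] using this
  have o4 : orderOf (a1 * b1 * a1⁻¹ * b1⁻¹) = 4 := by
    have : Fact (Nat.Prime 2) := ⟨Nat.prime_two⟩
    have := orderOf_eq_prime_pow (p := 2) (n := 1) (x := a1 * b1 * a1⁻¹ * b1⁻¹)
      (by norm_num; exact hc) (by norm_num; exact hc4)
    rw [this]
    norm_num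
  have o3 : orderOf b1 = 3 := by
    have : Fact (Nat.Prime 3) := ⟨Nat.prime_three⟩
    exact orderOf_eq_prime hb3 hb1
  have o7 : orderOf (a1 * b1) = 7 := by
    have : Fact (Nat.Prime 7) := ⟨by norm_num⟩
    exact orderOf_eq_prime hab7 hab1
  have d4 : 4 ∣ Nat.card π1.range := by
    rw [← o4]
    exact Subgroup.orderOf_dvd_natCard _
      (mul_mem (mul_mem (mul_mem ha1 hb1') (inv_mem ha1)) (inv_mem hb1'))
  have d3 : 3 ∣ Nat.card π1.range := by
    rw [← o3]
    exact Subgroup.orderOf_dvd_natCard _ hb1'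
  have d7 : 7 ∣ Nat.card π1.range := by
    rw [← o7]
    exact Subgroup.orderOf_dvd_natCard _ (mul_mem ha1 hb1')
  have d84 : 84 ∣ Nat.card π1.range := by
    have e1 : 3 * 7 ∣ Nat.card π1.range := Nat.Coprime.mul_dvd_of_dvd_of_dvd (by norm_num) d3 d7
    have e2 : 4 * (3 * 7) ∣ Nat.card π1.range :=
      Nat.Coprime.mul_dvd_of_dvd_of_dvd (by norm_num) d4 e1
    exact e2
  have hidx := Subgroup.card_mul_index π1.range
  rw [h1] at hidx
  have htop : π1.range = ⊤ := by
    obtain ⟨m, hm⟩ := d84
    rw [hm, mul_assoc] at hidx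
    have hmi : m * π1.range.index = 2 := by omega
    have hi : π1.range.index = 1 ∨ π1.range.index = 2 := by
      have hdvd : π1.range.index ∣ 2 := Dvd.intro_left m hmi
      have := Nat.le_of_dvd (by norm_num) hdvd
      have hpos : π1.range.index ≠ 0 := by
        intro h0
        rw [h0] at hmi
        omega
      omega
    rcases hi with hi | hi
    · exact Subgroup.index_eq_one.1 hi
    · have hn : π1.range.Normal := Subgroup.normal_of_index_eq_two hi
      rcases hn.eq_bot_or_eq_top with h | h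
      · exfalso
        rw [h, Subgroup.card_bot] at hm
        omega
      · exact h
  have hs1 : Function.Surjective π1 := MonoidHom.range_eq_top.1 htop
  have hD' : Nat.card D = 168 := by
    have := Nat.card_le_card_of_surjective π1 hs1
    omega
  have hbij1 : Function.Bijective π1 :=
    (Nat.bijective_iff_surjective_and_card π1).2 ⟨hs1, by rw [hD', h1]⟩
  let e1 : D ≃* G1 := MulEquiv.ofBijective π1 hbij1
  have hnt : Nontrivial D := by
    rw [← Finite.one_lt_card_iff_nontrivial, hD']
    norm_num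
  have hsD : IsSimpleGroup D := IsSimpleGroup.isSimpleGroup_of_surjective e1.symm.toMonoidHom e1.symm.surjective
  have hker : π2.ker = ⊥ := by
    rcases (MonoidHom.normal_ker π2).eq_bot_or_eq_top with h | h
    · exact h
    · exfalso
      have : B ∈ π2.ker := by rw [h]; trivial
      exact hb2 (MonoidHom.mem_ker.1 this)
  have hinj2 : Function.Injective π2 := (MonoidHom.ker_eq_bot_iff π2).1 hker
  have hbij2 : Function.Bijective π2 :=
    (Nat.bijective_iff_injective_and_card π2).2 ⟨hinj2, by rw [hD', h2]⟩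
  exact ⟨e1.symm.trans (MulEquiv.ofBijective π2 hbij2)⟩

end Cfsg.Agent.Helper17.L27
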