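import Mathlib
import Cfsg.Agent.Helper2.SLCard
import Cfsg.Agent.Helper17.L27.Iso

/-!
# `PSL₂(7) ≅ PSL₃(2)` (helper17)

Explicit generators in `SL₂(ℤ/7)` and `SL₃(ℤ/2)` satisfying the relations of `L₂(7)`.
-/

set_option autoImplicit false

namespace Cfsg.Agent.Helper17.L27

open Matrix Cfsg.Agent.Helper17.J1

/-- four letters -/
def cols4 {M : Type*} [One M] (m0 m1 m2 m3 : M) : ℕ → M
  | 0 => m0
  | 1 => m1
  | 2 => m2
  | 3 => m3
  | _ => 1

/-- value of a word in four letters -/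
def ev4 {M : Type*} [Monoid M] (m0 m1 m2 m3 : M) (w : List ℕ) : M :=
  (w.map (cols4 m0 m1 m2 m3)).prod

theorem ev_eq_map_ev4 {M K : Type*} [Monoid M] [Group K] (f : M →* K) (m0 m1 m2 m3 : M)
    (h0 : f m0 * f m1 = 1) (h2 : f m2 * f m3 = 1) (w : List ℕ) :
    ev (f m0) (f m2) w = f (ev4 m0 m1 m2 m3 w) := by
  have e1 : (f m0)⁻¹ = f m1 := inv_eq_of_mul_eq_one_right h0
  have e3 : (f m2)⁻¹ = f m3 := inv_eq_of_mul_eq_one_right h2
  induction w with
  | nil => simp [ev, ev4]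
  | cons l w ih =>
    rw [ev_cons, ih]
    have : ev4 m0 m1 m2 m3 (l :: w) = cols4 m0 m1 m2 m3 l * ev4 m0 m1 m2 m3 w := by simp [ev4]
    rw [this, map_mul]
    congr 1
    rcases l with _ | _ | _ | _ | l <;> simp [cols, cols4, e1, e3]

section generic

variable {n : ℕ} {R S : Type*} [CommRing R] [CommRing S] (e : R →+* S)

/-- from `SL_n(R)` to `PSL_n(S)` -/
def phi : SpecialLinearGroup (Fin n) R →* ProjectiveSpecialLinearGroup (Fin n) S :=
  (QuotientGroup.mk' (Subgroup.center (SpecialLinearGroup (Fin n) S))).comp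
    (SpecialLinearGroup.map e)

theorem map_injective (he : Function.Injective e) :
    Function.Injective (SpecialLinearGroup.map e : SpecialLinearGroup (Fin n) R →* _) := by
  intro X Y h
  rw [Matrix.SpecialLinearGroup.ext_iff] at h ⊢
  intro i j
  have := h i j
  simp only [SpecialLinearGroup.map_apply_coe, RingHom.mapMatrix_apply, Matrix.map_apply] at this
  exact he this

theorem phi_ne_one (he : Function.Injective e) {W C : SpecialLinearGroup (Fin n) R}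
    (h : W * C ≠ C * W) : phi e W ≠ 1 := by
  intro h1
  have h2 : SpecialLinearGroup.map e W ∈ Subgroup.center (SpecialLinearGroup (Fin n) S) :=
    (QuotientGroup.eq_one_iff _).1 h1
  rw [Subgroup.mem_center_iff] at h2
  have h3 := h2 (SpecialLinearGroup.map e C)
  rw [← map_mul, ← map_mul] at h3
  exact h (map_injective e he h3).symm

theorem phi_eq_one {W : SpecialLinearGroup (Fin n) R} (r : R) (hr : r ^ n = 1)
    (hW : ∀ i j, W i j = if i = j then r else 0) : phi e W = 1 := by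
  apply (QuotientGroup.eq_one_iff _).2
  rw [Matrix.SpecialLinearGroup.mem_center_iff]
  refine ⟨e r, ?_, ?_⟩
  · rw [Fintype.card_fin, ← map_pow, hr, map_one]
  · ext i j
    simp only [SpecialLinearGroup.map_apply_coe, RingHom.mapMatrix_apply, Matrix.map_apply]
    rw [hW i j, Matrix.scalar_apply, Matrix.diagonal_apply]
    split_ifs <;> simp

end generic

/-! ### `SL₂(ℤ/7)` -/

def A7 : SpecialLinearGroup (Fin 2) (ZMod 7) := ⟨!![0, 6; 1, 0], by decide⟩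
def Ai7 : SpecialLinearGroup (Fin 2) (ZMod 7) := ⟨!![0, 1; 6, 0], by decide⟩
def B7 : SpecialLinearGroup (Fin 2) (ZMod 7) := ⟨!![0, 6; 1, 1], by decide⟩
def Bi7 : SpecialLinearGroup (Fin 2) (ZMod 7) := ⟨!![1, 1; 6, 0], by decide⟩
def N7 : SpecialLinearGroup (Fin 2) (ZMod 7) := ⟨!![6, 0; 0, 6], by decide⟩

theorem inv7 : A7 * Ai7 = 1 ∧ B7 * Bi7 = 1 := by decide

theorem rel7 : ∀ r ∈ TCD.L27.relsL, ev4 A7 Ai7 B7 Bi7 r = 1 ∨ ev4 A7 Ai7 B7 Bi7 r = N7 := by
  decide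

theorem nc7 : ev4 A7 Ai7 B7 Bi7 [0, 2, 1, 3, 0, 2, 1, 3] * A7 ≠
      A7 * ev4 A7 Ai7 B7 Bi7 [0, 2, 1, 3, 0, 2, 1, 3] ∧ B7 * A7 ≠ A7 * B7 ∧
      (A7 * B7) * A7 ≠ A7 * (A7 * B7) := by
  decide

theorem N7_entries : ∀ i j, N7 i j = if i = j then (6 : ZMod 7) else 0 := by
  intro i j
  fin_cases i <;> fin_cases j <;> rfl

/-! ### `SL₃(ℤ/2)` -/

def A2 : SpecialLinearGroup (Fin 3) (ZMod 2) := ⟨!![0, 0, 1; 0, 1, 0; 1, 0, 0], by decide⟩
def B2 : SpecialLinearGroup (Fin 3) (ZMod 2) := ⟨!![0, 1, 0; 1, 0, 1; 1, 1, 0], by decide⟩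
def Bi2 : SpecialLinearGroup (Fin 3) (ZMod 2) := ⟨!![1, 0, 1; 1, 0, 0; 1, 1, 1], by decide⟩

theorem inv2 : A2 * A2 = 1 ∧ B2 * Bi2 = 1 := by decide

theorem rel2 : ∀ r ∈ TCD.L27.relsL, ev4 A2 A2 B2 Bi2 r = 1 := by
  decide

theorem nc2 : B2 * A2 ≠ A2 * B2 := by decide

section main

variable {F : Type*} [Field F] [Fintype F] {K : Type*} [Field K] [Fintype K]

theorem card_psl27 (hF : Fintype.card F = 7) :
    Nat.card (ProjectiveSpecialLinearGroup (Fin 2) F) = 168 := by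
  have h1 := Cfsg.Agent.Helper2.SLCard.card_SL_mul F 2 (by norm_num)
  have h2 := Cfsg.Agent.Helper2.SLCard.card_PSL_mul F 2 (by norm_num)
  have h3 : Nat.card (GL (Fin 2) F) = 2016 := by
    rw [Matrix.card_GL_field, hF]
    simp [Fin.prod_univ_two]
  rw [hF, h3] at h1
  rw [hF] at h2
  have e : Nat.gcd (7 - 1) 2 = 2 := by decide
  rw [e] at h2
  omega

theorem card_psl32 (hK : Fintype.card K = 2) :
    Nat.card (ProjectiveSpecialLinearGroup (Fin 3) K) = 168 := by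
  have h1 := Cfsg.Agent.Helper2.SLCard.card_SL_mul K 3 (by norm_num)
  have h2 := Cfsg.Agent.Helper2.SLCard.card_PSL_mul K 3 (by norm_num)
  have h3 : Nat.card (GL (Fin 3) K) = 168 := by
    rw [Matrix.card_GL_field, hK]
    simp [Fin.prod_univ_three]
  rw [hK, h3] at h1
  rw [hK] at h2
  have e : Nat.gcd (2 - 1) 3 = 1 := by decide
  rw [e] at h2
  omega

/-- `PSL₂(7) ≅ PSL₃(2)` -/
theorem psl27_iso_psl32 (hF : Fintype.card F = 7) (hK : Fintype.card K = 2) :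
    Nonempty (ProjectiveSpecialLinearGroup (Fin 2) F ≃*
      ProjectiveSpecialLinearGroup (Fin 3) K) := by
  classical
  let e7 : ZMod 7 ≃+* F := ZMod.ringEquivOfPrime F (by norm_num) hF
  let e2 : ZMod 2 ≃+* K := ZMod.ringEquivOfPrime K (by norm_num) hK
  have he7 : Function.Injective (e7 : ZMod 7 →+* F) := e7.injective
  have he2 : Function.Injective (e2 : ZMod 2 →+* K) := e2.injective
  have hfin1 : Finite (ProjectiveSpecialLinearGroup (Fin 2) F) :=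
    Nat.finite_of_card_ne_zero (by rw [card_psl27 hF]; norm_num)
  have hfin2 : Finite (ProjectiveSpecialLinearGroup (Fin 3) K) :=
    Nat.finite_of_card_ne_zero (by rw [card_psl32 hK]; norm_num)
  have hs : IsSimpleGroup (ProjectiveSpecialLinearGroup (Fin 2) F) := by
    apply Matrix.ProjectiveSpecialLinearGroup.rank_two_simple'
    refine ⟨e7 2, ?_, ?_⟩
    · intro h
      have : (2 : ZMod 7) = 0 := e7.injective (by rw [h, map_zero])
      exact absurd this (by decide)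
    · intro h
      have : (2 : ZMod 7) ^ 2 = 1 := e7.injective (by rw [map_pow, h, map_one])
      exact absurd this (by decide)
  let φ1 := phi (n := 2) (e7 : ZMod 7 →+* F)
  let φ2 := phi (n := 3) (e2 : ZMod 2 →+* K)
  have hN : φ1 N7 = 1 := phi_eq_one _ 6 (by decide) N7_entries
  have i1a : φ1 A7 * φ1 Ai7 = 1 := by rw [← map_mul, inv7.1, map_one]
  have i1b : φ1 B7 * φ1 Bi7 = 1 := by rw [← map_mul, inv7.2, map_one]
  have i2a : φ2 A2 * φ2 A2 = 1 := by rw [← map_mul, inv2.1, map_one]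
  have i2b : φ2 B2 * φ2 Bi2 = 1 := by rw [← map_mul, inv2.2, map_one]
  have hR1 : ∀ r ∈ TCD.L27.relsL, ev (φ1 A7) (φ1 B7) r = 1 := by
    intro r hr
    rw [ev_eq_map_ev4 φ1 A7 Ai7 B7 Bi7 i1a i1b]
    rcases rel7 r hr with h | h
    · rw [h, map_one]
    · rw [h, hN]
  have hR2 : ∀ r ∈ TCD.L27.relsL, ev (φ2 A2) (φ2 B2) r = 1 := by
    intro r hr
    rw [ev_eq_map_ev4 φ2 A2 A2 B2 Bi2 i2a i2b, rel2 r hr, map_one]
  have hc : (φ1 A7 * φ1 B7 * (φ1 A7)⁻¹ * (φ1 B7)⁻¹) ^ 2 ≠ 1 := by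
    have e : (φ1 A7 * φ1 B7 * (φ1 A7)⁻¹ * (φ1 B7)⁻¹) ^ 2 =
        ev (φ1 A7) (φ1 B7) [0, 2, 1, 3, 0, 2, 1, 3] := by
      simp [ev, cols, pow_succ, mul_assoc]
    rw [e, ev_eq_map_ev4 φ1 A7 Ai7 B7 Bi7 i1a i1b]
    exact phi_ne_one _ he7 nc7.1
  have hb1 : φ1 B7 ≠ 1 := phi_ne_one _ he7 nc7.2.1
  have hab1 : φ1 A7 * φ1 B7 ≠ 1 := by
    rw [← map_mul]
    exact phi_ne_one _ he7 nc7.2.2
  have hb2 : φ2 B2 ≠ 1 := phi_ne_one _ he2 nc2
  exact iso_of_gens (card_psl27 hF) (card_psl32 hK) (φ1 A7) (φ1 B7) (φ2 A2) (φ2 B2) hR1 hR2 hc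
    hb1 hab1 hb2

end main

end Cfsg.Agent.Helper17.L27
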