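import Mathlib
import Cfsg.Agent.Helper17.L27.Iso
import Cfsg.Agent.Helper17.J1.Schur2
import Cfsg.Agent.Helper17.TCD.A6P_Chk

/-!
# Isomorphisms from presentations, general form (helper17)

Two groups of the same order `N`, the first one simple and generated by `a₁`, `b₁`, with pairs of
elements satisfying relations that bound the order of every group they generate by `N`, are
isomorphic. Also: the presentation `a² = b⁴ = (ab)⁵ = (ab²)⁵ = 1` of `A₆`.
-/

set_option autoImplicit false

universe u1 u2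

namespace Cfsg.Agent.Helper17.L27

open Cfsg.Agent.Helper17.TC Cfsg.Agent.Helper17 Cfsg.Agent.Helper17.J1

theorem iso_of_gens_gen {G1 : Type u1} {G2 : Type u2} [Group G1] [Group G2] [Finite G1]
    [Finite G2] (N : ℕ) (rels : List (List ℕ)) (h1 : Nat.card G1 = N) (h2 : Nat.card G2 = N)
    (hN : 1 < N) [IsSimpleGroup G1] (a1 b1 : G1) (a2 b2 : G2)
    (hbound : ∀ (D : Subgroup (G1 × G2)) (a b : D), Subgroup.closure ({a, b} : Set D) = ⊤ →
      (∀ r ∈ rels, ev a b r = 1) → Finite D ∧ Nat.card D ≤ N)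
    (hR1 : ∀ r ∈ rels, ev a1 b1 r = 1) (hR2 : ∀ r ∈ rels, ev a2 b2 r = 1)
    (hgen1 : Subgroup.closure ({a1, b1} : Set G1) = ⊤) (hne : a2 ≠ 1 ∨ b2 ≠ 1) :
    Nonempty (G1 ≃* G2) := by
  let D : Subgroup (G1 × G2) := Subgroup.closure {(a1, a2), (b1, b2)}
  have hAD : (a1, a2) ∈ D := Subgroup.subset_closure (by simp)
  have hBD : (b1, b2) ∈ D := Subgroup.subset_closure (by simp)
  let A : D := ⟨(a1, a2), hAD⟩
  let B : D := ⟨(b1, b2), hBD⟩
  have hgen : Subgroup.closure ({A, B} : Set D) = ⊤ := by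
    have := Subgroup.closure_closure_coe_preimage (k := ({(a1, a2), (b1, b2)} : Set (G1 × G2)))
    convert this using 2
    ext z
    simp only [Set.mem_insert_iff, Set.mem_singleton_iff, Set.mem_preimage]
    constructor
    · rintro (rfl | rfl)
      · left; rfl
      · right; rfl
    · rintro (h | h)
      · left; exact Subtype.ext h
      · right; exact Subtype.ext h
  have hRD : ∀ r ∈ rels, ev A B r = 1 := by
    intro r hr
    apply Subtype.ext
    rw [coe_ev]
    apply Prod.ext
    · have := map_ev (MonoidHom.fst G1 G2) (a1, a2) (b1, b2) r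
      simp only [MonoidHom.coe_fst] at this
      rw [this]
      exact hR1 r hr
    · have := map_ev (MonoidHom.snd G1 G2) (a1, a2) (b1, b2) r
      simp only [MonoidHom.coe_snd] at this
      rw [this]
      exact hR2 r hr
  obtain ⟨hfinD, hD⟩ := hbound D A B hgen hRD
  let π1 : D →* G1 := (MonoidHom.fst G1 G2).comp D.subtype
  let π2 : D →* G2 := (MonoidHom.snd G1 G2).comp D.subtype
  have htop : π1.range = ⊤ := by
    rw [eq_top_iff, ← hgen1, Subgroup.closure_le]
    rintro z (rfl | rfl)
    · exact ⟨A, rfl⟩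
    · exact ⟨B, rfl⟩
  have hs1 : Function.Surjective π1 := MonoidHom.range_eq_top.1 htop
  have hD' : Nat.card D = N := by
    have := Nat.card_le_card_of_surjective π1 hs1
    omega
  have hbij1 : Function.Bijective π1 :=
    (Nat.bijective_iff_surjective_and_card π1).2 ⟨hs1, by rw [hD', h1]⟩
  let e1 : D ≃* G1 := MulEquiv.ofBijective π1 hbij1
  have hnt : Nontrivial D := by
    rw [← Finite.one_lt_card_iff_nontrivial, hD']
    exact hN
  have hsD : IsSimpleGroup D :=
    IsSimpleGroup.isSimpleGroup_of_surjective e1.symm.toMonoidHom e1.symm.surjective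
  have hker : π2.ker = ⊥ := by
    rcases (MonoidHom.normal_ker π2).eq_bot_or_eq_top with h | h
    · exact h
    · exfalso
      have hA : A ∈ π2.ker := by rw [h]; trivial
      have hB : B ∈ π2.ker := by rw [h]; trivial
      rcases hne with h' | h'
      · exact h' (MonoidHom.mem_ker.1 hA)
      · exact h' (MonoidHom.mem_ker.1 hB)
  have hinj2 : Function.Injective π2 := (MonoidHom.ker_eq_bot_iff π2).1 hker
  have hbij2 : Function.Bijective π2 :=
    (Nat.bijective_iff_injective_and_card π2).2 ⟨hinj2, by rw [hD', h2]⟩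
  exact ⟨e1.symm.trans (MulEquiv.ofBijective π2 hbij2)⟩

section

variable {K : Type*} [Group K]

/-- a group generated by `a`, `b` with `a² = b⁴ = (ab)⁵ = (ab²)⁵ = 1` has order at most 360 -/
theorem card_le_A6 (a b : K) (hgen : Subgroup.closure ({a, b} : Set K) = ⊤)
    (hR : ∀ r ∈ TCD.A6P.relsL, ev a b r = 1) : Finite K ∧ Nat.card K ≤ 360 := by
  have hsub : ∀ w ∈ TCD.A6P.cert.subs, (w.map (cols a b)).prod ∈ Subgroup.zpowers (a * b) := by
    intro w hw
    have hw' : w ∈ [[0, 2]] := hw
    simp only [List.mem_cons, List.not_mem_nil, or_false] at hw'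
    subst hw'
    have e : ([0, 2].map (cols a b)).prod = a * b := by simp [cols]
    rw [e]
    exact Subgroup.mem_zpowers _
  obtain ⟨hfin, hle⟩ := index_le (c := TCD.A6P.cert) (Subgroup.zpowers (a * b)) (cols a b)
    TCD.A6P.checked (cols_gen' a b hgen) (cols_ginv' a b) hR hsub
  have hle' : (Subgroup.zpowers (a * b)).index ≤ 72 := hle
  have hab5 : (a * b) ^ 5 = 1 := by
    have := hR [0, 2, 0, 2, 0, 2, 0, 2, 0, 2] (by simp [TCD.A6P.relsL])
    simpa [ev, cols, pow_succ, mul_assoc] using this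
  have h3 : Nat.card (Subgroup.zpowers (a * b)) ≤ 5 := by
    rw [Nat.card_zpowers]
    exact orderOf_le_of_pow_eq_one (by norm_num) hab5
  have h3' : Nat.card (Subgroup.zpowers (a * b)) ≠ 0 := by
    rw [Nat.card_zpowers]
    exact (orderOf_pos_iff.2 (isOfFinOrder_iff_pow_eq_one.2 ⟨5, by norm_num, hab5⟩)).ne'
  have h4 : (Subgroup.zpowers (a * b)).index ≠ 0 := by
    rw [Subgroup.index]
    exact Nat.card_pos.ne'
  have hc := Subgroup.card_mul_index (Subgroup.zpowers (a * b))
  have hK : Nat.card K ≠ 0 := by rw [← hc]; exact Nat.mul_ne_zero h3' h4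
  refine ⟨Nat.finite_of_card_ne_zero hK, ?_⟩
  rw [← hc]
  calc Nat.card (Subgroup.zpowers (a * b)) * (Subgroup.zpowers (a * b)).index ≤ 5 * 72 :=
        Nat.mul_le_mul h3 hle'
    _ = 360 := by norm_num

/-- two independent commuting elements of order 3 generate a subgroup of order divisible by 9 -/
theorem nine_dvd_card_sup [Finite K] (u v : K) (hu : u ^ 3 = 1) (hv : v ^ 3 = 1)
    (huv : u * v = v * u) (hu1 : u ≠ 1) (hvu : v ∉ Subgroup.zpowers u) :
    9 ∣ Nat.card ↥(Subgroup.zpowers u ⊔ Subgroup.zpowers v) := by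
  have : Fact (Nat.Prime 3) := ⟨Nat.prime_three⟩
  have hpa : IsPGroup 3 (Subgroup.zpowers u) := by
    rintro ⟨g, hg⟩
    obtain ⟨i, rfl⟩ := Subgroup.mem_zpowers_iff.1 hg
    refine ⟨1, Subtype.ext ?_⟩
    show (u ^ i) ^ 3 ^ 1 = 1
    rw [pow_one, ← zpow_natCast, ← zpow_mul, mul_comm, zpow_mul, zpow_natCast, hu, one_zpow]
  have hpb : IsPGroup 3 (Subgroup.zpowers v) := by
    rintro ⟨g, hg⟩
    obtain ⟨i, rfl⟩ := Subgroup.mem_zpowers_iff.1 hg
    refine ⟨1, Subtype.ext ?_⟩
    show (v ^ i) ^ 3 ^ 1 = 1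
    rw [pow_one, ← zpow_natCast, ← zpow_mul, mul_comm, zpow_mul, zpow_natCast, hv, one_zpow]
  have hnorm : Subgroup.zpowers u ≤
      Subgroup.normalizer ((Subgroup.zpowers v : Subgroup K) : Set K) := by
    rw [Subgroup.zpowers_le]
    apply mem_normalizer_zpowers
    · rw [huv, mul_inv_cancel_right]; exact Subgroup.mem_zpowers v
    · rw [mul_assoc, ← huv, inv_mul_cancel_left]; exact Subgroup.mem_zpowers v
  have hP : IsPGroup 3 ↥(Subgroup.zpowers u ⊔ Subgroup.zpowers v) :=
    IsPGroup.to_sup_of_normal_right' hpa hpb hnorm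
  obtain ⟨k, hk⟩ := IsPGroup.iff_card.1 hP
  have hoa : Nat.card (Subgroup.zpowers u) = 3 := by
    rw [Nat.card_zpowers, orderOf_eq_prime hu hu1]
  have h3 : 3 < 3 ^ k := by
    by_contra hcon
    have hle : Nat.card ↥(Subgroup.zpowers u ⊔ Subgroup.zpowers v) ≤
        Nat.card (Subgroup.zpowers u) := by rw [hk, hoa]; omega
    have := Subgroup.eq_of_le_of_card_ge (le_sup_left : Subgroup.zpowers u ≤ _) hle
    apply hvu
    rw [this]
    exact (le_sup_right : Subgroup.zpowers v ≤ _) (Subgroup.mem_zpowers v)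
  have hk2 : 2 ≤ k := by
    by_contra hcon
    have : k ≤ 1 := by omega
    have := Nat.pow_le_pow_right (show 0 < 3 by norm_num) this
    omega
  rw [hk]
  exact pow_dvd_pow 3 hk2

/-- a subgroup of a simple group of order `N` whose order is divisible by `d ≥ N / 2` is
everything -/
theorem eq_top_of_dvd_card [Finite K] [IsSimpleGroup K] (H : Subgroup K) (N d : ℕ)
    (hN : Nat.card K = N) (hd : d ∣ Nat.card H) (hNd : N ≤ 2 * d) (hd1 : 1 < d) : H = ⊤ := by
  obtain ⟨m, hm⟩ := hd
  have hidx := Subgroup.card_mul_index H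
  rw [hN, hm, mul_assoc] at hidx
  have hNpos : 0 < N := hN ▸ Nat.card_pos
  have hpos : 0 < m * H.index := by
    rcases Nat.eq_zero_or_pos (m * H.index) with h0 | h0
    · rw [h0, Nat.mul_zero] at hidx
      omega
    · exact h0
  have hle : m * H.index ≤ 2 := by
    by_contra hcon
    have h3 : 3 ≤ m * H.index := by omega
    have h4 : d * 3 ≤ d * (m * H.index) := Nat.mul_le_mul_left d h3
    rw [hidx] at h4
    omega
  have hm0 : 0 < m := Nat.pos_of_mul_pos_right hpos
  have hi0 : 0 < H.index := Nat.pos_of_mul_pos_left hpos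
  have hi : H.index = 1 ∨ H.index = 2 := by
    have : H.index ≤ m * H.index := Nat.le_mul_of_pos_left _ hm0
    omega
  rcases hi with hi | hi
  · exact Subgroup.index_eq_one.1 hi
  · have hn : H.Normal := Subgroup.normal_of_index_eq_two hi
    rcases hn.eq_bot_or_eq_top with h | h
    · exfalso
      rw [h, Subgroup.card_bot] at hm
      have : d = 1 := Nat.eq_one_of_mul_eq_one_right hm.symm
      omega
    · exact h

end

end Cfsg.Agent.Helper17.L27
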