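import Mathlib
import Cfsg.Agent.Helper2.SLCard
import Cfsg.Agent.Helper17.L27.IsoGen
import Cfsg.Agent.Helper17.L27.Conc

/-!
# `PSL₂(9) ≅ A₆` (helper17)

Explicit generators in `A₆` and in `SL₂(ℤ[i])` (mapped to `SL₂(𝔽₉)`) satisfying the relations
`a² = b⁴ = (ab)⁵ = (ab²)⁵ = 1`, which present `A₆`.
-/

set_option autoImplicit false

namespace Cfsg.Agent.Helper17.L27

open Matrix Cfsg.Agent.Helper17.J1

/-! ### The `A₆` side -/

/-- `(2 3)(4 5)` -/
def a6a : Equiv.Perm (Fin 6) := Equiv.swap 2 3 * Equiv.swap 4 5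

/-- `(0 2)(1 3 4 5)` -/
def a6b : Equiv.Perm (Fin 6) :=
  Equiv.swap 0 2 * Equiv.swap 1 3 * Equiv.swap 3 4 * Equiv.swap 4 5

theorem a6a_mem : a6a ∈ alternatingGroup (Fin 6) := by
  rw [Equiv.Perm.mem_alternatingGroup]
  simp [a6a, Equiv.Perm.sign_mul, Equiv.Perm.sign_swap']

theorem a6b_mem : a6b ∈ alternatingGroup (Fin 6) := by
  rw [Equiv.Perm.mem_alternatingGroup]
  simp [a6b, Equiv.Perm.sign_mul, Equiv.Perm.sign_swap']

/-- the generators in `A₆` -/
def A6a : alternatingGroup (Fin 6) := ⟨a6a, a6a_mem⟩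

/-- the generators in `A₆` -/
def A6b : alternatingGroup (Fin 6) := ⟨a6b, a6b_mem⟩

set_option maxRecDepth 100000 in
theorem a6_rels : ∀ r ∈ TCD.A6P.relsL, ev a6a a6b r = 1 := by
  decide +kernel

theorem A6_rels : ∀ r ∈ TCD.A6P.relsL, ev A6a A6b r = 1 := by
  intro r hr
  apply Subtype.ext
  rw [coe_ev]
  exact a6_rels r hr

/-- first element of order 3 -/
def a6u : Equiv.Perm (Fin 6) := ev a6a a6b [0, 2, 0, 3, 0, 2, 2]

/-- second element of order 3 -/
def a6v : Equiv.Perm (Fin 6) := ev a6a a6b [2, 0, 2, 0, 3, 0, 2]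

set_option maxRecDepth 100000 in
/-- facts about the generating permutations, checked by evaluation -/
theorem a6_facts :
    a6b ^ 2 ≠ 1 ∧ a6b ^ 4 = 1 ∧ a6a * a6b ≠ 1 ∧ (a6a * a6b) ^ 5 = 1 ∧
    a6u ^ 3 = 1 ∧ a6v ^ 3 = 1 ∧ a6u * a6v = a6v * a6u ∧ a6u ≠ 1 ∧ a6v ≠ 1 ∧ a6v ≠ a6u ∧
    a6v ≠ a6u ^ 2 := by
  decide +kernel

theorem card_A6 : Nat.card (alternatingGroup (Fin 6)) = 360 := by
  rw [nat_card_alternatingGroup, Nat.card_fin]
  decide

theorem ev_mem_closure {K : Type*} [Group K] (a b : K) (w : List ℕ) :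
    ev a b w ∈ Subgroup.closure ({a, b} : Set K) := by
  have ha : a ∈ Subgroup.closure ({a, b} : Set K) := Subgroup.subset_closure (by simp)
  have hb : b ∈ Subgroup.closure ({a, b} : Set K) := Subgroup.subset_closure (by simp)
  induction w with
  | nil => simp [ev]
  | cons l w ih =>
    rw [ev_cons]
    refine Subgroup.mul_mem _ ?_ ih
    rcases l with _ | _ | _ | _ | l
    · simpa [cols] using ha
    · simpa [cols] using ha
    · simpa [cols] using hb
    · simpa [cols] using hb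
    · simp [cols]

theorem A6_gen : Subgroup.closure ({A6a, A6b} : Set (alternatingGroup (Fin 6))) = ⊤ := by
  have hs : IsSimpleGroup (alternatingGroup (Fin 6)) :=
    alternatingGroup.isSimpleGroup (by simp)
  obtain ⟨f1, f2, f3, f4, f5, f6, f7, f8, f9, f10, f11⟩ := a6_facts
  set H := Subgroup.closure ({A6a, A6b} : Set (alternatingGroup (Fin 6))) with hH
  have ha : A6a ∈ H := Subgroup.subset_closure (by simp)
  have hb : A6b ∈ H := Subgroup.subset_closure (by simp)
  have ca : (A6a : Equiv.Perm (Fin 6)) = a6a := rfl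
  have cb : (A6b : Equiv.Perm (Fin 6)) = a6b := rfl
  -- order 4
  have h4 : 4 ∣ Nat.card H := by
    have : Fact (Nat.Prime 2) := ⟨Nat.prime_two⟩
    have ho : orderOf A6b = 2 ^ (1 + 1) := by
      apply orderOf_eq_prime_pow
      · intro h
        apply f1
        have h' := congrArg Subtype.val h
        rw [Subgroup.coe_pow, cb] at h'
        exact h'
      · apply Subtype.ext
        rw [Subgroup.coe_pow, cb]
        exact f2
    have h := orderOf_dvd_natCard (⟨A6b, hb⟩ : H)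
    rw [Subgroup.orderOf_mk, ho] at h
    exact h
  -- order 5
  have h5 : 5 ∣ Nat.card H := by
    have : Fact (Nat.Prime 5) := ⟨by norm_num⟩
    have ho : orderOf (A6a * A6b) = 5 := by
      apply orderOf_eq_prime
      · apply Subtype.ext
        rw [Subgroup.coe_pow, Subgroup.coe_mul, ca, cb]
        exact f4
      · intro h
        apply f3
        have h' := congrArg Subtype.val h
        rw [Subgroup.coe_mul, ca, cb] at h'
        exact h'
    have h := orderOf_dvd_natCard (⟨A6a * A6b, H.mul_mem ha hb⟩ : H)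
    rw [Subgroup.orderOf_mk, ho] at h
    exact h
  -- order 9
  have h9 : 9 ∣ Nat.card H := by
    obtain ⟨u, hu⟩ : ∃ u : alternatingGroup (Fin 6), u = ev A6a A6b [0, 2, 0, 3, 0, 2, 2] :=
      ⟨_, rfl⟩
    obtain ⟨v, hv⟩ : ∃ v : alternatingGroup (Fin 6), v = ev A6a A6b [2, 0, 2, 0, 3, 0, 2] :=
      ⟨_, rfl⟩
    have cu : (u : Equiv.Perm (Fin 6)) = a6u := by
      rw [hu, coe_ev]; rfl
    have cv : (v : Equiv.Perm (Fin 6)) = a6v := by
      rw [hv, coe_ev]; rfl
    have hu3 : u ^ 3 = 1 := by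
      apply Subtype.ext
      rw [Subgroup.coe_pow, cu]
      exact f5
    have hv3 : v ^ 3 = 1 := by
      apply Subtype.ext
      rw [Subgroup.coe_pow, cv]
      exact f6
    have huv : u * v = v * u := by
      apply Subtype.ext
      rw [Subgroup.coe_mul, Subgroup.coe_mul, cu, cv]
      exact f7
    have hu1 : u ≠ 1 := by
      intro h
      apply f8
      rw [← cu, h]; rfl
    have hvu : v ∉ Subgroup.zpowers u := by
      intro hmem
      obtain ⟨k, hk⟩ := Subgroup.mem_zpowers_iff.1 hmem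
      rw [zpow_eq_zpow_emod' k hu3] at hk
      have hk0 := Int.emod_nonneg k (by norm_num : ((3 : ℕ) : ℤ) ≠ 0)
      have hk3 := Int.emod_lt_of_pos k (by norm_num : (0 : ℤ) < ((3 : ℕ) : ℤ))
      obtain ⟨j, hj⟩ := Int.eq_ofNat_of_zero_le hk0
      rw [hj] at hk hk3
      have hj3 : j < 3 := by exact_mod_cast hk3
      rw [zpow_natCast] at hk
      have hk' : a6u ^ j = a6v := by
        rw [← cu, ← cv, ← hk, Subgroup.coe_pow]
      interval_cases j
      · apply f9
        rw [← hk', pow_zero]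
      · apply f10
        rw [← hk', pow_one]
      · apply f11
        rw [← hk']
    have h := nine_dvd_card_sup u v hu3 hv3 huv hu1 hvu
    have hle : Subgroup.zpowers u ⊔ Subgroup.zpowers v ≤ H := by
      rw [sup_le_iff, Subgroup.zpowers_le, Subgroup.zpowers_le, hu, hv]
      exact ⟨ev_mem_closure _ _ _, ev_mem_closure _ _ _⟩
    exact h.trans (Subgroup.card_dvd_of_le hle)
  have h20 : 20 ∣ Nat.card H :=
    Nat.Coprime.mul_dvd_of_dvd_of_dvd (by norm_num : Nat.Coprime 4 5) h4 h5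
  have h180 : 180 ∣ Nat.card H :=
    Nat.Coprime.mul_dvd_of_dvd_of_dvd (by norm_num : Nat.Coprime 20 9) h20 h9
  exact eq_top_of_dvd_card H 360 180 card_A6 h180 (by norm_num) (by norm_num)

/-! ### The `PSL₂(9)` side -/

/-- generator in `SL₂(ℤ[i])` -/
def G9A : SpecialLinearGroup (Fin 2) GaussianInt :=
  ⟨!![⟨0, -1⟩, ⟨-1, 0⟩; ⟨0, 0⟩, ⟨0, 1⟩], by decide⟩

/-- its inverse -/
def G9Ai : SpecialLinearGroup (Fin 2) GaussianInt :=
  ⟨!![⟨0, 1⟩, ⟨1, 0⟩; ⟨0, 0⟩, ⟨0, -1⟩], by decide⟩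

/-- generator in `SL₂(ℤ[i])` -/
def G9B : SpecialLinearGroup (Fin 2) GaussianInt :=
  ⟨!![⟨0, -1⟩, ⟨0, -1⟩; ⟨0, -1⟩, ⟨0, 0⟩], by decide⟩

/-- its inverse -/
def G9Bi : SpecialLinearGroup (Fin 2) GaussianInt :=
  ⟨!![⟨0, 0⟩, ⟨0, 1⟩; ⟨0, 1⟩, ⟨0, -1⟩], by decide⟩

theorem inv9 : G9A * G9Ai = 1 ∧ G9B * G9Bi = 1 := by decide

/-- the matrix is congruent to the scalar `s` modulo 3 -/
def chk9 (W : SpecialLinearGroup (Fin 2) GaussianInt) (s : ℤ) : Prop :=
  ∀ i j : Fin 2, ((W i j).re - (if i = j then s else 0)) % 3 = 0 ∧ (W i j).im % 3 = 0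

instance (W : SpecialLinearGroup (Fin 2) GaussianInt) (s : ℤ) : Decidable (chk9 W s) := by
  unfold chk9
  infer_instance

theorem rel9 : ∀ r ∈ TCD.A6P.relsL,
    chk9 (ev4 G9A G9Ai G9B G9Bi r) 1 ∨ chk9 (ev4 G9A G9Ai G9B G9Bi r) (-1) := by
  decide

section generic9

variable {S : Type*} [CommRing S] (e : GaussianInt →+* S)

theorem map_gauss (x : GaussianInt) : e x = (x.re : S) + e ⟨0, 1⟩ * (x.im : S) := by
  obtain ⟨a, b⟩ := x
  show e ⟨a, b⟩ = (a : S) + e ⟨0, 1⟩ * (b : S)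
  have h := Zsqrtd.decompose (d := -1) (x := a) (y := b)
  rw [h, map_add, map_mul, map_intCast, map_intCast]
  rfl

theorem cast_eq_of_emod (h3 : (3 : S) = 0) (a b : ℤ) (h : (a - b) % 3 = 0) :
    (a : S) = (b : S) := by
  obtain ⟨k, hk⟩ := Int.dvd_of_emod_eq_zero h
  have : a = b + 3 * k := by omega
  rw [this]
  push_cast
  rw [h3]
  ring

theorem phi_eq_one_of_chk (h3 : (3 : S) = 0) {W : SpecialLinearGroup (Fin 2) GaussianInt}
    {s : ℤ} (hs : s * s = 1) (hW : chk9 W s) : phi e W = 1 := by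
  apply (QuotientGroup.eq_one_iff _).2
  rw [Matrix.SpecialLinearGroup.mem_center_iff]
  refine ⟨(s : S), ?_, ?_⟩
  · rw [Fintype.card_fin, sq, ← Int.cast_mul, hs, Int.cast_one]
  · ext i j
    simp only [SpecialLinearGroup.map_apply_coe, RingHom.mapMatrix_apply, Matrix.map_apply]
    rw [Matrix.scalar_apply, Matrix.diagonal_apply]
    obtain ⟨h1, h2⟩ := hW i j
    rw [map_gauss e (W i j)]
    have e1 := cast_eq_of_emod (S := S) h3 _ _ h1
    have e2 := cast_eq_of_emod (S := S) h3 (W i j).im 0 (by simpa using h2)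
    rw [e1, e2]
    split_ifs <;> simp

theorem phi_ne_one_of_entry {n : ℕ} {R : Type*} [CommRing R] (f : R →+* S)
    {W : SpecialLinearGroup (Fin n) R} (i j : Fin n) (hij : i ≠ j) (h : f (W i j) ≠ 0) :
    phi f W ≠ 1 := by
  intro h1
  have h2 : SpecialLinearGroup.map f W ∈ Subgroup.center (SpecialLinearGroup (Fin n) S) :=
    (QuotientGroup.eq_one_iff _).1 h1
  rw [Matrix.SpecialLinearGroup.mem_center_iff] at h2
  obtain ⟨r, -, hr⟩ := h2
  have h4 := congrFun (congrFun hr i) j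
  rw [Matrix.scalar_apply, Matrix.diagonal_apply, if_neg hij] at h4
  simp only [SpecialLinearGroup.map_apply_coe, RingHom.mapMatrix_apply, Matrix.map_apply] at h4
  exact h h4.symm

end generic9

section main9

variable {F : Type*} [Field F] [Fintype F]

theorem card_psl29 (hF : Fintype.card F = 9) :
    Nat.card (ProjectiveSpecialLinearGroup (Fin 2) F) = 360 := by
  have h1 := Cfsg.Agent.Helper2.SLCard.card_SL_mul F 2 (by norm_num)
  have h2 := Cfsg.Agent.Helper2.SLCard.card_PSL_mul F 2 (by norm_num)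
  have h3 : Nat.card (GL (Fin 2) F) = 5760 := by
    rw [Matrix.card_GL_field, hF]
    simp [Fin.prod_univ_two]
  rw [hF, h3] at h1
  rw [hF] at h2
  have e : Nat.gcd (9 - 1) 2 = 2 := by decide
  rw [e] at h2
  omega

/-- `PSL₂(9) ≅ A₆` -/
theorem psl29_iso_A6 (hF : Fintype.card F = 9) :
    Nonempty (ProjectiveSpecialLinearGroup (Fin 2) F ≃* alternatingGroup (Fin 6)) := by
  classical
  obtain ⟨ι, hι⟩ := (FiniteField.isSquare_neg_one_iff (F := F)).2 (by rw [hF]; decide)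
  have h9 : ((9 : ℕ) : F) = 0 := by
    rw [← hF]
    exact FiniteField.cast_card_eq_zero F
  have h3 : (3 : F) = 0 := by
    have : (3 : F) * 3 = 0 := by
      have e : (3 : F) * 3 = ((9 : ℕ) : F) := by norm_num
      rw [e, h9]
    exact mul_self_eq_zero.1 this
  have hι0 : ι ≠ 0 := by
    rintro rfl
    simp at hι
  let e : GaussianInt →+* F := Zsqrtd.lift ⟨ι, by rw [← hι]; simp⟩
  have he : e ⟨0, 1⟩ = ι := by
    show Zsqrtd.lift _ _ = _
    rw [Zsqrtd.lift_apply_apply]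
    simp
  have hfin2 : Finite (ProjectiveSpecialLinearGroup (Fin 2) F) :=
    Nat.finite_of_card_ne_zero (by rw [card_psl29 hF]; norm_num)
  have hs : IsSimpleGroup (alternatingGroup (Fin 6)) :=
    alternatingGroup.isSimpleGroup (by simp)
  let φ := phi (n := 2) e
  have ia : φ G9A * φ G9Ai = 1 := by rw [← map_mul, inv9.1, map_one]
  have ib : φ G9B * φ G9Bi = 1 := by rw [← map_mul, inv9.2, map_one]
  have hR2 : ∀ r ∈ TCD.A6P.relsL, ev (φ G9A) (φ G9B) r = 1 := by
    intro r hr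
    rw [ev_eq_map_ev4 φ G9A G9Ai G9B G9Bi ia ib]
    rcases rel9 r hr with h | h
    · exact phi_eq_one_of_chk e h3 (by norm_num) h
    · exact phi_eq_one_of_chk e h3 (by norm_num) h
  have hb2 : φ G9B ≠ 1 := by
    apply phi_ne_one_of_entry e 0 1 (by decide)
    have hB : (G9B : Matrix (Fin 2) (Fin 2) GaussianInt) 0 1 = ⟨0, -1⟩ := rfl
    rw [hB, map_gauss e, he]
    simpa using hι0
  obtain ⟨iso⟩ := iso_of_gens_gen 360 TCD.A6P.relsL card_A6 (card_psl29 hF) (by norm_num)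
    A6a A6b (φ G9A) (φ G9B) (fun D a b hgen hR => card_le_A6 a b hgen hR) A6_rels hR2 A6_gen
    (Or.inr hb2)
  exact ⟨iso.symm⟩

end main9

end Cfsg.Agent.Helper17.L27
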